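import Groth.Agent.UnivInjHensel.Core
import Groth.Agent.Hensel.HenselizationProps
import Groth.Agent.IsoNatLib.SmoothCrit
import Groth.Agent.FPDescent.Basic
import Mathlib.RingTheory.IsTensorProduct
import Mathlib.RingTheory.Localization.BaseChange

/-!
# Injectivity modulo an ideal, from injectivity on all fibres
-/

set_option autoImplicit false
set_option linter.style.haveILetI false
set_option linter.unusedSectionVars false
set_option backward.isDefEq.respectTransparency false
set_option backward.isDefEq.respectTransparency.types false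
set_option maxHeartbeats 1000000

universe u

open TensorProduct IsLocalRing

namespace Groth.Agent.UnivInjHensel

/-- A finitely presented module over a localisation is the localisation of a finite module. -/
theorem exists_finite_model {B : Type u} [CommRing B] (T : Submonoid B) (N : Type u) [AddCommGroup N]
    [Module (Localization T) N] [Module B N] [IsScalarTower B (Localization T) N]
    [Module.FinitePresentation (Localization T) N] :
    ∃ (N₁ : Type u) (_ : AddCommGroup N₁) (_ : Module B N₁) (f : N₁ →ₗ[B] N),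
      Module.Finite B N₁ ∧ IsLocalizedModule T f := by
  classical
  haveI hid : IsLocalizedModule T (LinearMap.id : N →ₗ[B] N) := by
    refine ⟨fun t => ?_, fun y => ⟨(y, 1), by simp⟩, fun h => ⟨1, by simpa using h⟩⟩
    have hu : IsUnit (algebraMap B (Localization T) t) := IsLocalization.map_units _ t
    rw [Module.End.isUnit_iff]
    refine ⟨fun a b hab => ?_, fun b => ⟨(hu.unit⁻¹ : (Localization T)ˣ).val • b, ?_⟩⟩
    · rw [Module.algebraMap_end_apply, Module.algebraMap_end_apply, ← algebraMap_smul (Localization T) (t : B) a,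
        ← algebraMap_smul (Localization T) (t : B) b] at hab
      exact hu.smul_left_cancel.1 hab
    · rw [Module.algebraMap_end_apply, ← algebraMap_smul (Localization T) (t : B), smul_smul, hu.mul_val_inv, one_smul]
  let e : LocalizedModule T N ≃ₗ[Localization T] N :=
    (IsLocalizedModule.iso T (LinearMap.id : N →ₗ[B] N)).extendScalarsOfIsLocalization T (Localization T)
  haveI : Module.FinitePresentation (Localization T) (LocalizedModule T N) := Module.FinitePresentation.of_equiv e.symm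
  obtain ⟨n, K, φ, -, hφ⟩ := FPDescent.exists_fp_descent T N
  refine ⟨(Fin n → B) ⧸ K, inferInstance, inferInstance, φ, inferInstance, ?_⟩
  have hcomp : ∀ y, LocalizedModule.map T φ (LocalizedModule.mk y 1) = LocalizedModule.mk (φ y) 1 := fun y =>
    LocalizedModule.map_mk _ _ _ _
  refine ⟨hid.map_units, fun z => ?_, fun {a b} hab => ?_⟩
  · obtain ⟨w, hw⟩ := hφ.2 (LocalizedModule.mk z 1)
    induction w using LocalizedModule.induction_on with
    | h y s =>
      rw [LocalizedModule.map_mk, LocalizedModule.mk_eq] at hw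
      obtain ⟨c, hc⟩ := hw
      refine ⟨((c : B) • y, c * s), ?_⟩
      rw [map_smul, mul_smul, Submonoid.smul_def]
      rw [one_smul] at hc
      exact hc.symm
  · have h1 : LocalizedModule.mk a (1 : T) = LocalizedModule.mk b 1 := hφ.1 (by rw [hcomp, hcomp, hab])
    obtain ⟨c, hc⟩ := LocalizedModule.mk_eq.1 h1
    exact ⟨c, by simpa using hc⟩

/-- The core statement after base change to a henselian local ring. -/
theorem eq_zero_baseChange {A B R S : Type u} [CommRing A] [CommRing B] [Algebra A B] [CommRing R] [Algebra A R]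
    [HenselianLocalRing R] [CommRing S] [Algebra R S] [Algebra B S] [Algebra A S] [IsScalarTower A R S]
    [IsScalarTower A B S] [Algebra.IsPushout A R B S] [Algebra.FinitePresentation R S]
    (T : Submonoid B) (N₁ N : Type u) [AddCommGroup N₁] [Module B N₁] [Module.Finite B N₁] [AddCommGroup N]
    [Module B N] [Module A N] [IsScalarTower A B N] (f : N₁ →ₗ[B] N) [IsLocalizedModule T f] [Module.Flat A N]
    {M : Type u} [AddCommGroup M] [Module A M] [Module.Flat A M] (u : N →ₗ[A] M)
    (hu : Function.Injective ((u.baseChange R).lTensor (R ⧸ maximalIdeal R))) (x : N)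
    (hux : (1 : R) ⊗ₜ[A] u x = 0) (hnil : ∀ r ∈ maximalIdeal R, ∃ n : ℕ, r ^ n • ((1 : R) ⊗ₜ[A] x) = 0)
    (hdiv : ∀ a : R, a ≠ 0 → ∃ y : R ⊗[A] N, a • y = (1 : R) ⊗ₜ[A] x) : (1 : R) ⊗ₜ[A] x = 0 := by
  haveI : SMulCommClass B R S :=
    ⟨fun s a c => by rw [← algebraMap_smul S a c, ← algebraMap_smul S a (s • c), smul_comm]⟩
  let e : (S ⊗[B] N) ≃ₗ[R] R ⊗[A] N := Algebra.IsPushout.cancelBaseChange A R B S N
  have he : ∀ n : N, e ((1 : S) ⊗ₜ[B] n) = (1 : R) ⊗ₜ[A] n := fun n =>
    Algebra.IsPushout.cancelBaseChange_tmul A R B S N n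
  haveI : Module.Flat R (S ⊗[B] N) := Module.Flat.of_linearEquiv e
  let fS : S ⊗[B] N₁ →ₗ[S] S ⊗[B] N := f.baseChange S
  haveI hB : IsLocalizedModule T (fS.restrictScalars B) := by
    haveI h1 := IsLocalizedModule.rTensor (R := B) (A := B) (N := S) (S := T) (g := f)
    haveI h2 := IsLocalizedModule.of_linearEquiv_right (S := T) (f := AlgebraTensorModule.rTensor B S f)
      (e := TensorProduct.comm B S N₁)
    haveI h3 := IsLocalizedModule.of_linearEquiv (S := T) (f :=
      AlgebraTensorModule.rTensor B S f ∘ₗ (TensorProduct.comm B S N₁).toLinearMap) (e := TensorProduct.comm B N S)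
    convert h3 using 1
    refine TensorProduct.ext' fun c m => ?_
    rfl
  haveI : IsLocalizedModule (T.map (algebraMap B S : B →* S)) fS := by
    refine ⟨?_, fun z => ?_, fun {a b} hab => ?_⟩
    · rintro ⟨_, t, ht, rfl⟩
      rw [Module.End.isUnit_iff]
      have h1 := (Module.End.isUnit_iff _).1 (IsLocalizedModule.map_units (fS.restrictScalars B) (⟨t, ht⟩ : T))
      convert h1 using 1
      funext z
      simp [Module.algebraMap_end_apply]
    · obtain ⟨⟨y, t⟩, hy⟩ := IsLocalizedModule.surj T (fS.restrictScalars B) z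
      exact ⟨(y, ⟨algebraMap B S t, t.1, t.2, rfl⟩), by simpa [Submonoid.smul_def] using hy⟩
    · obtain ⟨c, hc⟩ := IsLocalizedModule.exists_of_eq (S := T) (f := fS.restrictScalars B) hab
      exact ⟨⟨algebraMap B S c, c.1, c.2, rfl⟩, by simpa [Submonoid.smul_def] using hc⟩
  let v : (S ⊗[B] N) →ₗ[R] R ⊗[A] M := (u.baseChange R).comp e.toLinearMap
  have h0 : (1 : S) ⊗ₜ[B] x = 0 := by
    refine eq_zero_of_henselian (T.map (algebraMap B S : B →* S)) fS v (fun n hn => ?_) _ ?_ (fun r hr => ?_) fun a ha => ?_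
    · have h1 := map_mem_smul_top e.symm.toLinearMap (RG.mem_smul_top_of_lTensor_injective _ _ hu hn)
      rwa [LinearEquiv.coe_coe, LinearEquiv.coe_coe, LinearEquiv.symm_apply_apply] at h1
    · show u.baseChange R (e ((1 : S) ⊗ₜ[B] x)) = 0
      rw [he, LinearMap.baseChange_tmul]
      exact hux
    · obtain ⟨n, hn⟩ := hnil r hr
      exact ⟨n, e.injective (by rw [map_smul, he, map_zero, hn])⟩
    · obtain ⟨y, hy⟩ := hdiv a ha
      exact ⟨e.symm y, e.injective (by rw [map_smul, he, LinearEquiv.apply_symm_apply, hy])⟩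
  rw [← he, h0, map_zero]

/-- The henselisation of `A` at a prime, as an `A`-algebra. -/
theorem exists_henselian_at_prime {A : Type u} [CommRing A] (P : Ideal A) [P.IsPrime] :
    ∃ (A₁ : Type u) (_ : CommRing A₁) (_ : Algebra A A₁) (_ : HenselianLocalRing A₁),
      Module.Flat A A₁ ∧ P.map (algebraMap A A₁) = maximalIdeal A₁ ∧ (maximalIdeal A₁).comap (algebraMap A A₁) = P := by
  let Ap := Localization.AtPrime P
  let A₁ := Hensel.LocalHenz Ap
  let i : A →+* A₁ := (algebraMap Ap A₁).comp (algebraMap A Ap)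
  letI : Algebra A A₁ := i.toAlgebra
  haveI : IsScalarTower A Ap A₁ := IsScalarTower.of_algebraMap_eq fun _ => rfl
  haveI hff : Module.FaithfullyFlat Ap A₁ := Hensel.faithfullyFlat_of_isHenselization Ap A₁
  haveI : Module.Flat A Ap := IsLocalization.flat Ap P.primeCompl
  have hmax : (maximalIdeal Ap).map (algebraMap Ap A₁) = maximalIdeal A₁ :=
    Hensel.map_maximalIdeal_of_isHenselization Ap A₁
  refine ⟨A₁, inferInstance, inferInstance, inferInstance, Module.Flat.trans A Ap A₁, ?_, ?_⟩
  · rw [IsScalarTower.algebraMap_eq A Ap A₁, ← Ideal.map_map, Localization.AtPrime.map_eq_maximalIdeal, hmax]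
  · rw [IsScalarTower.algebraMap_eq A Ap A₁, ← Ideal.comap_comap, ← hmax,
      Ideal.comap_map_eq_self_of_faithfullyFlat]
    exact IsLocalization.AtPrime.comap_maximalIdeal Ap P

/-- An element outside `I • ⊤` stays outside after a flat base change which does not kill its annihilator. -/
theorem one_tmul_notMem {A A₁ N : Type u} [CommRing A] [CommRing A₁] [Algebra A A₁] [Module.Flat A A₁]
    [AddCommGroup N] [Module A N] (I K : Ideal A) (x : N)
    (hK : ∀ r, r ∈ K ↔ r • x ∈ I • (⊤ : Submodule A N)) (hne : K.map (algebraMap A A₁) ≠ ⊤) :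
    (1 : A₁) ⊗ₜ[A] x ∉ I.map (algebraMap A A₁) • (⊤ : Submodule A₁ (A₁ ⊗[A] N)) := by
  intro hmem
  let W := N ⧸ I • (⊤ : Submodule A N)
  let π : A₁ ⊗[A] N →ₗ[A₁] A₁ ⊗[A] W := (I • (⊤ : Submodule A N)).mkQ.baseChange A₁
  have hIW : ∀ a ∈ I, ∀ w : W, a • w = 0 := by
    intro a ha w
    obtain ⟨n, rfl⟩ := Submodule.Quotient.mk_surjective _ w
    rw [← Submodule.Quotient.mk_smul, Submodule.Quotient.mk_eq_zero]
    exact Submodule.smul_mem_smul ha trivial
  have hkill : ∀ b ∈ I.map (algebraMap A A₁), ∀ z : A₁ ⊗[A] W, b • z = 0 := by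
    intro b hb z
    induction hb using Submodule.span_induction with
    | mem b hb =>
      obtain ⟨a, ha, rfl⟩ := hb
      rw [algebraMap_smul]
      induction z using TensorProduct.induction_on with
      | zero => exact smul_zero _
      | tmul c w => rw [← TensorProduct.tmul_smul, hIW a ha, TensorProduct.tmul_zero]
      | add z z' hz hz' => rw [smul_add, hz, hz', add_zero]
    | zero => exact zero_smul _ z
    | add b b' _ _ h h' => rw [add_smul, h, h', add_zero]
    | smul c b _ h => rw [smul_eq_mul, mul_smul, h, smul_zero]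
  have hπ : π ((1 : A₁) ⊗ₜ[A] x) = 0 :=
    Submodule.smul_induction_on hmem (fun b hb n _ => by rw [map_smul, hkill b hb])
      fun a b ha hb => by rw [map_add, ha, hb, add_zero]
  let l : (A ⧸ K) →ₗ[A] W := Submodule.liftQ K (LinearMap.toSpanSingleton A W (Submodule.Quotient.mk x)) fun r hr => by
    rw [LinearMap.mem_ker, LinearMap.toSpanSingleton_apply, ← Submodule.Quotient.mk_smul, Submodule.Quotient.mk_eq_zero]
    exact (hK r).1 hr
  have hl : Function.Injective l := by
    rw [← LinearMap.ker_eq_bot]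
    refine Submodule.ker_liftQ_eq_bot _ _ _ fun r hr => (hK r).2 ?_
    rwa [LinearMap.mem_ker, LinearMap.toSpanSingleton_apply, ← Submodule.Quotient.mk_smul,
      Submodule.Quotient.mk_eq_zero] at hr
  have h1 : (1 : A₁) ⊗ₜ[A] (Ideal.Quotient.mk K 1) = 0 := by
    apply Module.Flat.lTensor_preserves_injective_linearMap (M := A₁) l hl
    rw [LinearMap.lTensor_tmul, map_zero, show l (Ideal.Quotient.mk K 1) = Submodule.Quotient.mk x from (Submodule.liftQ_apply K _ 1).trans (one_smul A _)]
    exact hπ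
  have h2 := congrArg (TensorProduct.tensorQuotEquivQuotSMul A₁ K) h1
  rw [map_zero, TensorProduct.tensorQuotEquivQuotSMul_tmul_mk, one_smul, Submodule.Quotient.mk_eq_zero,
    Ideal.smul_top_eq_map] at h2
  exact hne ((Ideal.eq_top_iff_one _).2 h2)

/-- A maximal ideal modulo which the element survives. -/
theorem exists_maximal_notMem {A₁ X : Type u} [CommRing A₁] [AddCommGroup X] [Module A₁ X] (I : Ideal A₁) (x : X)
    (hx : x ∉ I • (⊤ : Submodule A₁ X)) :
    ∃ J : Ideal A₁, I ≤ J ∧ x ∉ J • (⊤ : Submodule A₁ X) ∧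
      ∀ J', J < J' → x ∈ J' • (⊤ : Submodule A₁ X) := by
  have hub : ∀ c ⊆ {J : Ideal A₁ | x ∉ J • (⊤ : Submodule A₁ X)}, IsChain (· ≤ ·) c → ∀ y ∈ c,
      ∃ ub ∈ {J : Ideal A₁ | x ∉ J • (⊤ : Submodule A₁ X)}, ∀ z ∈ c, z ≤ ub := by
    intro c hc hchain y hy
    refine ⟨sSup c, fun hmem => ?_, fun z hz => le_sSup hz⟩
    have key : ∀ z ∈ sSup c • (⊤ : Submodule A₁ X), ∃ J ∈ c, z ∈ J • (⊤ : Submodule A₁ X) := fun z hz => by
      refine Submodule.smul_induction_on hz (fun a ha n _ => ?_) fun a b ha hb => ?_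
      · obtain ⟨J, hJ, haJ⟩ := (Submodule.mem_sSup_of_directed ⟨y, hy⟩ hchain.directedOn).1 ha
        exact ⟨J, hJ, Submodule.smul_mem_smul haJ trivial⟩
      · obtain ⟨J, hJ, haJ⟩ := ha
        obtain ⟨J', hJ', hbJ⟩ := hb
        rcases hchain.total hJ hJ' with h | h
        · exact ⟨J', hJ', add_mem (Submodule.smul_mono_left h haJ) hbJ⟩
        · exact ⟨J, hJ, add_mem haJ (Submodule.smul_mono_left h hbJ)⟩
    obtain ⟨J, hJ, hxJ⟩ := key x hmem
    exact hc hJ hxJ
  obtain ⟨J, hIJ, hJ⟩ := zorn_le_nonempty₀ _ hub I hx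
  exact ⟨J, hIJ, hJ.prop, fun J' hlt => by_contra fun hJ' => hlt.not_ge (hJ.2 hJ' hlt.le)⟩

/-- Injectivity on all fibres gives injectivity modulo every ideal. -/
theorem mem_smul_top_of_fibres {A B : Type u} [CommRing A] [CommRing B] [Algebra A B] [Algebra.FinitePresentation A B]
    (T : Submonoid B) (N₁ N : Type u) [AddCommGroup N₁] [Module B N₁] [Module.Finite B N₁] [AddCommGroup N]
    [Module B N] [Module A N] [IsScalarTower A B N] (f : N₁ →ₗ[B] N) [IsLocalizedModule T f] [Module.Flat A N]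
    {M : Type u} [AddCommGroup M] [Module A M] [Module.Flat A M] (u : N →ₗ[A] M)
    (h : ∀ (p : Ideal A) [p.IsPrime], Function.Injective (u.lTensor p.ResidueField))
    (I : Ideal A) (x : N) (hux : u x ∈ I • (⊤ : Submodule A M)) : x ∈ I • (⊤ : Submodule A N) := by
  by_contra hx
  let K : Ideal A := (I • (⊤ : Submodule A N)).comap (LinearMap.toSpanSingleton A N x)
  have hK : ∀ r, r ∈ K ↔ r • x ∈ I • (⊤ : Submodule A N) := fun r => Iff.rfl
  obtain ⟨P, hP⟩ := Ideal.nonempty_minimalPrimes (I := K) fun ht =>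
    hx (by simpa using (hK 1).1 ((Ideal.eq_top_iff_one K).1 ht))
  haveI : P.IsPrime := hP.1.1
  obtain ⟨A₁, _, _, _, _, hPmax, hcomap⟩ := exists_henselian_at_prime P
  have hKne : K.map (algebraMap A A₁) ≠ ⊤ := fun ht =>
    (maximalIdeal.isMaximal A₁).ne_top (top_le_iff.1 (ht ▸ hPmax ▸ Ideal.map_mono hP.1.2))
  obtain ⟨J, hIJ, hxJ, hJmax⟩ := exists_maximal_notMem (I.map (algebraMap A A₁)) _ (one_tmul_notMem I K x hK hKne)
  have hJne : J ≠ ⊤ := fun ht => hxJ (by rw [ht, Submodule.top_smul]; trivial)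
  let R := A₁ ⧸ J
  letI : HenselianLocalRing R := IsoNatLib.henselianLocalRing_quotient J hJne
  let π : A₁ ⊗[A] N →ₗ[A] R ⊗[A] N := (IsScalarTower.toAlgHom A A₁ R).toLinearMap.rTensor N
  have hπ1 : π ((1 : A₁) ⊗ₜ[A] x) = (1 : R) ⊗ₜ[A] x := by simp [π]
  have hπs : ∀ (a : A₁) (z : A₁ ⊗[A] N), π (a • z) = Ideal.Quotient.mk J a • π z := fun a z => by
    induction z using TensorProduct.induction_on with
    | zero => simp
    | tmul c n => simp [π, TensorProduct.smul_tmul', Ideal.Quotient.algebraMap_eq, R]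
    | add z z' hz hz' => rw [smul_add, map_add, hz, hz', map_add, smul_add]
  have hπJ : ∀ z ∈ J • (⊤ : Submodule A₁ (A₁ ⊗[A] N)), π z = 0 := fun z hz =>
    Submodule.smul_induction_on hz
      (fun a ha n _ => by rw [hπs, Ideal.Quotient.eq_zero_iff_mem.2 ha, zero_smul])
      fun a b ha hb => by rw [map_add, ha, hb, add_zero]
  have hx0 : (1 : R) ⊗ₜ[A] x ≠ 0 := fun h0 => hxJ (by
    have h1 : (1 : R) ⊗ₜ[A₁] ((1 : A₁) ⊗ₜ[A] x) = 0 := by
      apply (AlgebraTensorModule.cancelBaseChange A A₁ A₁ R N).injective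
      rw [AlgebraTensorModule.cancelBaseChange_tmul, map_zero, one_smul]
      exact h0
    have h2 := congrArg (TensorProduct.quotTensorEquivQuotSMul (A₁ ⊗[A] N) J) h1
    rwa [TensorProduct.quotTensorEquivQuotSMul_mk_one_tmul, map_zero, Submodule.Quotient.mk_eq_zero] at h2)
  have hI0 : ∀ a ∈ I, algebraMap A R a = 0 := fun a ha => by
    rw [IsScalarTower.algebraMap_apply A A₁ R, Ideal.Quotient.algebraMap_eq, Ideal.Quotient.eq_zero_iff_mem]
    exact hIJ (Ideal.mem_map_of_mem _ ha)
  have hIz : ∀ {X : Type u} [AddCommGroup X] [Module A X] (y : X), y ∈ I • (⊤ : Submodule A X) →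
      (1 : R) ⊗ₜ[A] y = 0 := fun y hy =>
    Submodule.smul_induction_on hy
      (fun a ha n _ => by rw [TensorProduct.tmul_smul, ← algebraMap_smul R a, hI0 a ha, zero_smul])
      fun a b ha hb => by rw [TensorProduct.tmul_add, ha, hb, add_zero]
  have hmR : ∀ a : A₁, Ideal.Quotient.mk J a ∈ maximalIdeal R ↔ a ∈ maximalIdeal A₁ := fun a => by
    haveI : IsLocalHom (Ideal.Quotient.mk J) := .of_surjective _ Ideal.Quotient.mk_surjective
    rw [IsLocalRing.mem_maximalIdeal, IsLocalRing.mem_maximalIdeal, mem_nonunits_iff, mem_nonunits_iff,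
      isUnit_map_iff]
  -- the residue field
  let k := R ⧸ maximalIdeal R
  have hker : ∀ a : A, algebraMap A k a = 0 ↔ a ∈ P := fun a => by
    rw [IsScalarTower.algebraMap_apply A R k, Ideal.Quotient.algebraMap_eq, Ideal.Quotient.eq_zero_iff_mem,
      IsScalarTower.algebraMap_apply A A₁ R, Ideal.Quotient.algebraMap_eq, hmR, ← Ideal.mem_comap, hcomap]
  letI : Field k := Ideal.Quotient.field _
  letI : Algebra P.ResidueField k := (Ideal.ResidueField.lift P (algebraMap A k) (fun a ha => (hker a).2 ha)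
    (fun a ha => isUnit_iff_ne_zero.2 fun h0 => ha ((hker a).1 h0))).toAlgebra
  haveI : IsScalarTower A P.ResidueField k := IsScalarTower.of_algebraMap_eq fun a =>
    (Ideal.ResidueField.lift_algebraMap P (algebraMap A k) _ _ a).symm
  have hu : Function.Injective ((u.baseChange R).lTensor k) :=
    injective_lTensor_baseChange u (injective_lTensor_of_field u (h P))
  -- torsion
  have hKz : ∀ b ∈ K.map (algebraMap A A₁), Ideal.Quotient.mk J b • ((1 : R) ⊗ₜ[A] x) = 0 := by
    intro b hb
    induction hb using Submodule.span_induction with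
    | mem b hb =>
      obtain ⟨a, ha, rfl⟩ := hb
      rw [← Ideal.Quotient.algebraMap_eq, ← IsScalarTower.algebraMap_apply, algebraMap_smul, ← TensorProduct.tmul_smul]
      exact hIz _ ((hK a).1 ha)
    | zero => rw [map_zero, zero_smul]
    | add b b' _ _ hb hb' => rw [map_add, add_smul, hb, hb', add_zero]
    | smul c b _ hb => rw [smul_eq_mul, map_mul, mul_smul, hb, smul_zero]
  have hnil : ∀ r ∈ maximalIdeal R, ∃ n : ℕ, r ^ n • ((1 : R) ⊗ₜ[A] x) = 0 := by
    intro r hr
    obtain ⟨a, rfl⟩ := Ideal.Quotient.mk_surjective r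
    have ha : a ∈ (K.map (algebraMap A A₁)).radical := by
      rw [Ideal.radical_eq_sInf, Ideal.mem_sInf]
      rintro Q ⟨hKQ, hQ⟩
      haveI := hQ
      have hQP : P ≤ Q.comap (algebraMap A A₁) :=
        hP.2 ⟨Ideal.IsPrime.comap _, Ideal.map_le_iff_le_comap.1 hKQ⟩
          (hcomap ▸ Ideal.comap_mono (IsLocalRing.le_maximalIdeal hQ.ne_top))
      exact Ideal.map_le_iff_le_comap.2 hQP (hPmax.symm ▸ (hmR a).1 hr)
    obtain ⟨n, hn⟩ := ha
    exact ⟨n, by rw [← map_pow]; exact hKz _ hn⟩
  have hdiv : ∀ a : R, a ≠ 0 → ∃ y : R ⊗[A] N, a • y = (1 : R) ⊗ₜ[A] x := by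
    intro a ha
    obtain ⟨a, rfl⟩ := Ideal.Quotient.mk_surjective a
    have haJ : a ∉ J := fun haJ => ha (Ideal.Quotient.eq_zero_iff_mem.2 haJ)
    have h1 := hJmax (J ⊔ Ideal.span {a}) (lt_of_le_of_ne le_sup_left fun he =>
      haJ (he ▸ Ideal.mem_sup_right (Ideal.mem_span_singleton_self a)))
    rw [Submodule.sup_smul, Submodule.mem_sup] at h1
    obtain ⟨z, hz, w, hw, hzw⟩ := h1
    rw [Submodule.ideal_span_singleton_smul, Submodule.mem_smul_pointwise_iff_exists] at hw
    obtain ⟨w, -, rfl⟩ := hw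
    refine ⟨π w, ?_⟩
    rw [← hπ1, ← hzw, map_add, hπJ z hz, zero_add, hπs]
  haveI : Algebra.FinitePresentation R (R ⊗[A] B) := inferInstance
  letI : Algebra B (R ⊗[A] B) := Algebra.TensorProduct.rightAlgebra
  exact hx0 (eq_zero_baseChange (S := R ⊗[A] B) T N₁ N f u hu x (hIz _ hux) hnil hdiv)

end Groth.Agent.UnivInjHensel
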