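import Groth.Prelude.Def_FlatCA
import Groth.Agent.RG.ModMaxInj
import Mathlib.RingTheory.Flat.EquationalCriterion
import Mathlib.RingTheory.Finiteness.Ideal
import Mathlib.RingTheory.LocalRing.ResidueField.Ideal

/-!
# Reductions for universal injectivity into a flat module
-/

set_option autoImplicit false
set_option linter.style.haveILetI false
set_option linter.unusedSectionVars false
set_option backward.isDefEq.respectTransparency false
set_option maxHeartbeats 1000000

universe u v w

open TensorProduct

namespace Groth.Agent.UnivInjHensel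

/-- Linear maps preserve `J • ⊤`. -/
theorem map_mem_smul_top {A : Type u} [CommRing A] {X : Type v} {Y : Type w} [AddCommGroup X] [Module A X]
    [AddCommGroup Y] [Module A Y] (φ : X →ₗ[A] Y) {J : Ideal A} {x : X} (hx : x ∈ J • (⊤ : Submodule A X)) :
    φ x ∈ J • (⊤ : Submodule A Y) := by
  have h := Submodule.mem_map_of_mem (f := φ) hx
  rw [Submodule.map_smul''] at h
  exact Submodule.smul_mono le_rfl le_top h

/-- Scalars from an algebra preserve `J • ⊤`. -/
theorem smul_mem_smul_top {R S X : Type u} [CommRing R] [CommRing S] [Algebra R S] [AddCommGroup X] [Module S X]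
    [Module R X] [IsScalarTower R S X] (s : S) {J : Ideal R} {x : X} (hx : x ∈ J • (⊤ : Submodule R X)) :
    s • x ∈ J • (⊤ : Submodule R X) :=
  map_mem_smul_top ((LinearMap.lsmul S X s).restrictScalars R) hx

/-- Transport of injectivity along an isomorphism of the test module. -/
theorem injective_lTensor_of_equiv {A N M Q Q' : Type u} [CommRing A] [AddCommGroup N] [Module A N] [AddCommGroup M]
    [Module A M] [AddCommGroup Q] [Module A Q] [AddCommGroup Q'] [Module A Q'] (u : N →ₗ[A] M) (e : Q ≃ₗ[A] Q')
    (h : Function.Injective (u.lTensor Q)) : Function.Injective (u.lTensor Q') := by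
  intro a b hab
  apply (e.symm.rTensor N).injective
  apply h
  have hc : ∀ z, u.lTensor Q (e.symm.rTensor N z) = e.symm.rTensor M (u.lTensor Q' z) := fun z => by
    induction z using TensorProduct.induction_on with
    | zero => simp
    | tmul q n => simp
    | add a b ha hb => simp only [map_add, ha, hb]
  rw [hc, hc, hab]

/-- Extensions of test modules, for a flat target. -/
theorem injective_lTensor_of_exact {A N M Q' Q Q'' : Type u} [CommRing A] [AddCommGroup N] [Module A N] [AddCommGroup M]
    [Module A M] [Module.Flat A M] [AddCommGroup Q'] [Module A Q'] [AddCommGroup Q] [Module A Q] [AddCommGroup Q'']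
    [Module A Q''] (u : N →ₗ[A] M) (i : Q' →ₗ[A] Q) (p : Q →ₗ[A] Q'') (hi : Function.Injective i)
    (hex : Function.Exact i p) (hp : Function.Surjective p) (h' : Function.Injective (u.lTensor Q'))
    (h'' : Function.Injective (u.lTensor Q'')) : Function.Injective (u.lTensor Q) := by
  rw [injective_iff_map_eq_zero]
  intro z hz
  have hc : ∀ {X Y : Type u} [AddCommGroup X] [Module A X] [AddCommGroup Y] [Module A Y] (f : X →ₗ[A] Y)
      (z : X ⊗[A] N), u.lTensor Y (f.rTensor N z) = f.rTensor M (u.lTensor X z) := fun f z => by
    induction z using TensorProduct.induction_on with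
    | zero => simp
    | tmul q n => simp
    | add a b ha hb => simp only [map_add, ha, hb]
  have h1 : p.rTensor N z = 0 := h'' (by rw [hc, hz, map_zero, map_zero])
  obtain ⟨z', rfl⟩ := ((rTensor_exact N hex hp) z).1 h1
  rw [hc] at hz
  have h2 : u.lTensor Q' z' = 0 := by
    apply Module.Flat.rTensor_preserves_injective_linearMap (M := M) i hi
    rw [hz, map_zero]
  rw [h' (h2.trans (map_zero _).symm), map_zero]

/-- Injectivity modulo all ideals implies universal injectivity, for a flat target. -/
theorem univInj_of_mod_ideals {A N M : Type u} [CommRing A] [AddCommGroup N] [Module A N] [AddCommGroup M]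
    [Module A M] [Module.Flat A M] (u : N →ₗ[A] M)
    (h : ∀ I : Ideal A, Function.Injective (u.lTensor (A ⧸ I))) : FlatCA.UnivInj A u := by
  have hfin : ∀ (n : ℕ) (Q : Type u) [AddCommGroup Q] [Module A Q] (s : Fin n → Q),
      Submodule.span A (Set.range s) = ⊤ → Function.Injective (u.lTensor Q) := by
    intro n
    induction n with
    | zero =>
      intro Q _ _ s hs
      haveI : Subsingleton Q := by
        refine subsingleton_of_forall_eq 0 fun q => ?_
        have hq : q ∈ Submodule.span A (Set.range s) := hs ▸ Submodule.mem_top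
        rwa [Set.range_eq_empty, Submodule.span_empty, Submodule.mem_bot] at hq
      intro a b _
      exact Subsingleton.elim a b
    | succ n ih =>
      intro Q _ _ s hs
      let Q' : Submodule A Q := LinearMap.range (LinearMap.toSpanSingleton A Q (s 0))
      have h' : Function.Injective (u.lTensor Q') :=
        injective_lTensor_of_equiv u (LinearMap.toSpanSingleton A Q (s 0)).quotKerEquivRange
          (h (LinearMap.ker (LinearMap.toSpanSingleton A Q (s 0))))
      refine injective_lTensor_of_exact u Q'.subtype Q'.mkQ Q'.injective_subtype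
        (LinearMap.exact_subtype_mkQ Q') Q'.mkQ_surjective h' (ih (Q ⧸ Q') (fun i => Q'.mkQ (s i.succ)) ?_)
      rw [eq_top_iff, ← Q'.range_mkQ, LinearMap.range_eq_map, ← hs, Submodule.map_span, Submodule.span_le]
      rintro _ ⟨_, ⟨i, rfl⟩, rfl⟩
      refine Fin.cases ?_ (fun i => Submodule.subset_span ⟨i, rfl⟩) i
      rw [show Q'.mkQ (s 0) = 0 from (Submodule.Quotient.mk_eq_zero _).2 ⟨1, one_smul A (s 0)⟩]
      exact zero_mem _
  intro Q _ _
  rw [injective_iff_map_eq_zero]
  intro z hz
  have hex : ∀ z : Q ⊗[A] N, ∃ (Q₀ : Submodule A Q), Q₀.FG ∧ ∃ z₀ : Q₀ ⊗[A] N, Q₀.subtype.rTensor N z₀ = z := by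
    intro z
    induction z using TensorProduct.induction_on with
    | zero => exact ⟨⊥, Submodule.fg_bot, 0, map_zero _⟩
    | tmul q n => exact ⟨Submodule.span A {q}, Submodule.fg_span_singleton q,
        ⟨q, Submodule.mem_span_singleton_self q⟩ ⊗ₜ[A] n, rfl⟩
    | add a b ha hb =>
      obtain ⟨P, hP, a₀, rfl⟩ := ha
      obtain ⟨P', hP', b₀, rfl⟩ := hb
      refine ⟨P ⊔ P', hP.sup hP', (Submodule.inclusion le_sup_left).rTensor N a₀ +
        (Submodule.inclusion le_sup_right).rTensor N b₀, ?_⟩
      rw [map_add, ← LinearMap.comp_apply, ← LinearMap.comp_apply, ← LinearMap.rTensor_comp, ← LinearMap.rTensor_comp]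
      rfl
  obtain ⟨Q₀, hQ₀, z₀, rfl⟩ := hex z
  haveI : Module.Finite A Q₀ := Module.Finite.iff_fg.2 hQ₀
  obtain ⟨n, s, hs⟩ := Module.Finite.exists_fin (R := A) (M := Q₀)
  have h2 : u.lTensor Q₀ z₀ = 0 := by
    apply Module.Flat.rTensor_preserves_injective_linearMap (M := M) Q₀.subtype Q₀.injective_subtype
    rw [map_zero, ← LinearMap.comp_apply, LinearMap.rTensor_comp_lTensor, ← LinearMap.lTensor_comp_rTensor,
      LinearMap.comp_apply, hz]
  rw [hfin n Q₀ s hs (h2.trans (map_zero _).symm), map_zero]

/-- Injectivity modulo an ideal, from its elementwise form. -/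
theorem injective_lTensor_of_mem {A N M : Type u} [CommRing A] [AddCommGroup N] [Module A N] [AddCommGroup M]
    [Module A M] (I : Ideal A) (u : N →ₗ[A] M)
    (h : ∀ x, u x ∈ I • (⊤ : Submodule A M) → x ∈ I • (⊤ : Submodule A N)) :
    Function.Injective (u.lTensor (A ⧸ I)) := by
  rw [injective_iff_map_eq_zero]
  intro z hz
  obtain ⟨w, rfl⟩ := (TensorProduct.quotTensorEquivQuotSMul N I).symm.surjective z
  obtain ⟨x, rfl⟩ := Submodule.Quotient.mk_surjective _ w
  have hsymm : (TensorProduct.quotTensorEquivQuotSMul N I).symm (Submodule.Quotient.mk x) = 1 ⊗ₜ[A] x := by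
    rw [LinearEquiv.symm_apply_eq, TensorProduct.quotTensorEquivQuotSMul_mk_one_tmul]
  rw [hsymm, LinearMap.lTensor_tmul] at hz
  rw [hsymm]
  have h1 := congrArg (TensorProduct.quotTensorEquivQuotSMul M I) hz
  rw [TensorProduct.quotTensorEquivQuotSMul_mk_one_tmul, map_zero, Submodule.Quotient.mk_eq_zero] at h1
  apply (TensorProduct.quotTensorEquivQuotSMul N I).injective
  rw [TensorProduct.quotTensorEquivQuotSMul_mk_one_tmul, map_zero, Submodule.Quotient.mk_eq_zero]
  exact h x h1

/-- Injectivity over a field passes to every algebra over the field. -/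
theorem injective_lTensor_of_field {A κ k N M : Type u} [CommRing A] [Field κ] [CommRing k] [Algebra A κ] [Algebra A k]
    [Algebra κ k] [IsScalarTower A κ k] [AddCommGroup N] [Module A N] [AddCommGroup M] [Module A M]
    (u : N →ₗ[A] M) (h : Function.Injective (u.lTensor κ)) : Function.Injective (u.lTensor k) := by
  have hb : Function.Injective (u.baseChange κ) := h
  have hinj := Module.Flat.lTensor_preserves_injective_linearMap (R := κ) (M := k) (u.baseChange κ) hb
  have hc : ∀ z, AlgebraTensorModule.cancelBaseChange A κ κ k M ((u.baseChange κ).lTensor k z) =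
      u.lTensor k (AlgebraTensorModule.cancelBaseChange A κ κ k N z) := fun z => by
    induction z using TensorProduct.induction_on with
    | zero => simp
    | add a b ha hb => simp only [map_add, ha, hb]
    | tmul l y =>
      induction y using TensorProduct.induction_on with
      | zero => simp
      | add a b ha hb => simp only [TensorProduct.tmul_add, map_add, ha, hb]
      | tmul c n => simp
  intro a b hab
  obtain ⟨a', rfl⟩ := (AlgebraTensorModule.cancelBaseChange A κ κ k N).surjective a
  obtain ⟨b', rfl⟩ := (AlgebraTensorModule.cancelBaseChange A κ κ k N).surjective b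
  rw [← hc, ← hc] at hab
  rw [hinj ((AlgebraTensorModule.cancelBaseChange A κ κ k M).injective hab)]

/-- Injectivity over an algebra, after base change to an intermediate ring. -/
theorem injective_lTensor_baseChange {A R k N M : Type u} [CommRing A] [CommRing R] [CommRing k] [Algebra A R]
    [Algebra A k] [Algebra R k] [IsScalarTower A R k] [AddCommGroup N] [Module A N] [AddCommGroup M] [Module A M]
    (u : N →ₗ[A] M) (h : Function.Injective (u.lTensor k)) : Function.Injective ((u.baseChange R).lTensor k) := by
  have hc : ∀ z, AlgebraTensorModule.cancelBaseChange A R R k M ((u.baseChange R).lTensor k z) =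
      u.lTensor k (AlgebraTensorModule.cancelBaseChange A R R k N z) := fun z => by
    induction z using TensorProduct.induction_on with
    | zero => simp
    | add a b ha hb => simp only [map_add, ha, hb]
    | tmul l y =>
      induction y using TensorProduct.induction_on with
      | zero => simp
      | add a b ha hb => simp only [TensorProduct.tmul_add, map_add, ha, hb]
      | tmul c n => simp
  intro a b hab
  apply (AlgebraTensorModule.cancelBaseChange A R R k N).injective
  apply h
  rw [← hc, ← hc, hab]

end Groth.Agent.UnivInjHensel
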