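import Groth.Agent.UnivInjHensel.Local

/-!
# The core statement over a henselian local ring
-/

set_option autoImplicit false
set_option linter.style.haveILetI false
set_option linter.unusedSectionVars false
set_option backward.isDefEq.respectTransparency false
set_option backward.isDefEq.respectTransparency.types false
set_option maxHeartbeats 1000000

universe u

open TensorProduct IsLocalRing

namespace Groth.Agent.UnivInjHensel

/-- An element of a module over a henselian local ring, of finite presentation type after localisation, which is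
killed by a map into a flat module that is injective on the closed fibre, is zero as soon as it is torsion for the
maximal ideal and divisible by every nonzero scalar. -/
theorem eq_zero_of_henselian {R S N₁ NT M : Type u} [CommRing R] [HenselianLocalRing R] [CommRing S] [Algebra R S]
    [Algebra.FinitePresentation R S] [AddCommGroup N₁] [Module S N₁] [Module R N₁] [IsScalarTower R S N₁]
    [Module.Finite S N₁] [AddCommGroup NT] [Module S NT] [Module R NT] [IsScalarTower R S NT]
    (T : Submonoid S) (f : N₁ →ₗ[S] NT) [IsLocalizedModule T f] [Module.Flat R NT]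
    [AddCommGroup M] [Module R M] [Module.Flat R M] (u : NT →ₗ[R] M)
    (hu : ∀ n, u n ∈ maximalIdeal R • (⊤ : Submodule R M) → n ∈ maximalIdeal R • (⊤ : Submodule R NT))
    (x : NT) (hux : u x = 0) (hnil : ∀ r ∈ maximalIdeal R, ∃ n : ℕ, r ^ n • x = 0)
    (hdiv : ∀ a : R, a ≠ 0 → ∃ y, a • y = x) : x = 0 := by
  by_contra hx
  have hTu : ∀ t ∈ T, ∀ y : NT, t • y = 0 → y = 0 := fun t ht y hy =>
    ((Module.End.isUnit_iff _).1 (IsLocalizedModule.map_units f (⟨t, ht⟩ : T))).1 (hy.trans (smul_zero t).symm)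
  -- the prime
  let J : Ideal S := LinearMap.ker (LinearMap.toSpanSingleton S NT x)
  have hJ : ∀ s, s ∈ J ↔ s • x = 0 := fun s => Iff.rfl
  obtain ⟨q, hq, hJq, hqT⟩ := Ideal.exists_le_prime_disjoint J T
    (Set.disjoint_left.2 fun s hs ht => hx (hTu s ht x ((hJ s).1 hs)))
  haveI := hq
  haveI : q.LiesOver (maximalIdeal R) := ⟨by
    refine (le_antisymm (IsLocalRing.le_maximalIdeal (Ideal.IsPrime.comap (algebraMap R S)).ne_top) fun r hr => ?_).symm
    obtain ⟨n, hn⟩ := hnil r hr
    refine Ideal.IsPrime.mem_of_pow_mem hq n ?_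
    rw [← map_pow]
    exact hJq ((hJ _).2 (by rw [algebraMap_smul, hn]))⟩
  have hTq : T ≤ q.primeCompl := fun t ht htq => Set.disjoint_left.1 hqT htq ht
  have hflat : FlatCA.FlatAt R q N₁ := by
    refine (FlatModel.flat_localized_iff q.primeCompl (LocalizedModule.mkLinearMap q.primeCompl N₁)).2 fun I y hy => ?_
    let φ : N₁ ⊗[R] I →ₗ[S] NT ⊗[R] I := AlgebraTensorModule.rTensor R I f
    let ψ : N₁ ⊗[R] R →ₗ[S] NT ⊗[R] R := AlgebraTensorModule.rTensor R R f
    have hc : ∀ z, I.subtype.lTensor NT (φ z) = ψ (I.subtype.lTensor N₁ z) := fun z => by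
      induction z using TensorProduct.induction_on with
      | zero => simp
      | tmul m j => simp [φ, ψ]
      | add a b ha hb => simp only [map_add, ha, hb]
    have h1 : φ y = 0 :=
      Module.Flat.lTensor_preserves_injective_linearMap (M := NT) I.subtype I.injective_subtype
        (by rw [map_zero, hc, hy, map_zero])
    obtain ⟨t, ht⟩ := (IsLocalizedModule.eq_zero_iff T φ).1 h1
    exact ⟨t, hTq t.2, ht⟩
  obtain ⟨N₀, _, _, i₀, j, hproj, hji, hj⟩ := exists_projective_model q hflat
  let mkq := LocalizedModule.mkLinearMap q.primeCompl N₁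
  let ρ : NT →ₗ[S] LocalizedModule q.primeCompl N₁ := IsLocalizedModule.lift T f mkq
    fun t => IsLocalizedModule.map_units mkq (⟨t.1, hTq t.2⟩ : q.primeCompl)
  have hρ : ∀ n, ρ (f n) = mkq n := fun n => IsLocalizedModule.lift_apply T f mkq _ n
  obtain ⟨⟨n₁, t⟩, hn₁⟩ := IsLocalizedModule.surj T f x
  -- the image in the projective module
  have hne : mkq n₁ ≠ 0 := fun h0 => by
    obtain ⟨s, hs⟩ := (IsLocalizedModule.eq_zero_iff q.primeCompl mkq).1 h0
    have h1 := congrArg f hs
    rw [Submonoid.smul_def, map_smul, map_zero, ← hn₁, Submonoid.smul_def, smul_smul] at h1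
    exact (Ideal.IsPrime.mem_or_mem hq (hJq ((hJ _).2 h1))).elim s.2 fun h => hTq t.2 h
  have hy : ∀ a : R, a ≠ 0 → ∃ y, a • y = i₀ n₁ := by
    intro a ha
    obtain ⟨y, hy⟩ := hdiv a ha
    have h1 : j (i₀ n₁) ∈ Ideal.span {a} • (⊤ : Submodule R (LocalizedModule q.primeCompl N₁)) := by
      rw [hji]
      show mkq n₁ ∈ _
      rw [← hρ, ← hn₁, ← hy, Submonoid.smul_def, map_smul, LinearMap.map_smul_of_tower]
      exact smul_mem_smul_top _ (Submodule.smul_mem_smul (Ideal.mem_span_singleton_self a) trivial)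
    have h2 := RG.mem_smul_top_of_lTensor_injective (Ideal.span {a}) j (hj _) h1
    rw [Submodule.ideal_span_singleton_smul, Submodule.mem_smul_pointwise_iff_exists] at h2
    obtain ⟨y', -, hy'⟩ := h2
    exact ⟨y', hy'⟩
  have hy0 : i₀ n₁ ≠ 0 := fun h0 => hne (by
    show LocalizedModule.mkLinearMap q.primeCompl N₁ n₁ = 0
    rw [← hji, h0, map_zero])
  -- a nonzero coordinate generates the socle
  obtain ⟨sec, hsec⟩ := Module.projective_def'.mp hproj
  have hsec0 : sec (i₀ n₁) ≠ 0 := fun h0 => hy0 (by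
    have := LinearMap.congr_fun hsec (i₀ n₁)
    rw [LinearMap.comp_apply, h0, map_zero, LinearMap.id_apply] at this
    exact this.symm)
  obtain ⟨i, hi⟩ := Finsupp.ne_iff.1 hsec0
  set c : R := sec (i₀ n₁) i with hc
  have hc0 : c ≠ 0 := by simpa using hi
  have hca : ∀ a : R, a ≠ 0 → ∃ d, c = a * d := fun a ha => by
    obtain ⟨y, hy⟩ := hy a ha
    exact ⟨sec y i, by rw [hc, ← hy, map_smul, Finsupp.smul_apply, smul_eq_mul]⟩
  have hcm : ∀ p ∈ maximalIdeal R, p * c = 0 := by
    intro p hp
    by_contra hpc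
    obtain ⟨d, hd⟩ := hca _ hpc
    have h1 : (1 - p * d) * c = 0 := by
      rw [sub_mul, one_mul, sub_eq_zero]
      calc c = p * c * d := hd
        _ = p * d * c := by ring
    have hu' : IsUnit (1 - p * d) := IsLocalRing.isUnit_one_sub_self_of_mem_nonunits _
      (Ideal.mul_mem_right d _ hp)
    exact hc0 (hu'.mul_right_eq_zero.1 h1)
  obtain ⟨n, hn⟩ := hdiv c hc0
  have hnm : n ∉ maximalIdeal R • (⊤ : Submodule R NT) := fun hmem => by
    refine hx ?_
    rw [← hn]
    refine Submodule.smul_induction_on hmem (fun p hp w _ => ?_) fun a b ha hb => by rw [smul_add, ha, hb, add_zero]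
    rw [smul_smul, mul_comm, hcm p hp, zero_smul]
  refine hnm (hu n ?_)
  have hrel : ∑ k : Fin 1, (fun _ => c) k • (fun _ => u n) k = 0 := by
    rw [Fin.sum_univ_one, ← map_smul, hn, hux]
  obtain ⟨κ, -, a, w, hw, ha⟩ : ∃ (k : ℕ) (_ : Unit) (a : Fin 1 → Fin k → R) (w : Fin k → M),
      (∀ i, u n = ∑ l, a i l • w l) ∧ ∀ l, ∑ i, c * a i l = 0 := by
    obtain ⟨k, a, w, h1, h2⟩ := Module.Flat.isTrivialRelation_of_sum_smul_eq_zero hrel
    exact ⟨k, (), a, w, h1, h2⟩
  rw [hw 0]
  refine Submodule.sum_mem _ fun l _ => Submodule.smul_mem_smul ?_ trivial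
  have h0 := ha l
  rw [Fin.sum_univ_one] at h0
  by_contra hnu
  exact hc0 ((IsLocalRing.notMem_maximalIdeal.1 hnu).mul_left_eq_zero.1 h0)

end Groth.Agent.UnivInjHensel
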