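import Groth.Agent.UnivInjHensel.Basic
import Groth.Agent.RG.HenselLocFree
import Groth.Agent.FlatModel.Local

/-!
# A projective model near a point of the closed fibre over a henselian local ring
-/

set_option autoImplicit false
set_option linter.style.haveILetI false
set_option linter.unusedSectionVars false
set_option backward.isDefEq.respectTransparency false
set_option backward.isDefEq.respectTransparency.types false
set_option maxHeartbeats 1000000

universe u

open TensorProduct IsLocalRing

namespace Groth.Agent.UnivInjHensel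

/-- An element outside `q` killing all the torsion at `q` of the closed fibre. -/
theorem exists_killing_torsion {R S N : Type u} [CommRing R] [IsLocalRing R] [CommRing S] [Algebra R S]
    [Algebra.FiniteType R S] [AddCommGroup N] [Module S N] [Module R N] [IsScalarTower R S N] [Module.Finite S N]
    (q : Ideal S) [q.IsPrime] :
    ∃ g ∉ q, ∀ s ∉ q, ∀ n : N, s • n ∈ maximalIdeal R • (⊤ : Submodule R N) →
      g • n ∈ maximalIdeal R • (⊤ : Submodule R N) := by
  classical
  let I : Ideal S := (maximalIdeal R).map (algebraMap R S)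
  have hIff : ∀ n : N, n ∈ maximalIdeal R • (⊤ : Submodule R N) ↔ n ∈ I • (⊤ : Submodule S N) := fun n => by
    rw [← Submodule.restrictScalars_mem R (I • (⊤ : Submodule S N)) n, Ideal.smul_restrictScalars,
      Submodule.restrictScalars_top]
  letI : Field (R ⧸ maximalIdeal R) := Ideal.Quotient.field _
  letI : Algebra (R ⧸ maximalIdeal R) (S ⧸ I) :=
    (Ideal.quotientMap I (algebraMap R S) Ideal.le_comap_map).toAlgebra
  haveI : IsScalarTower R (R ⧸ maximalIdeal R) (S ⧸ I) := IsScalarTower.of_algebraMap_eq fun _ => rfl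
  haveI : Algebra.FiniteType R (S ⧸ I) :=
    Algebra.FiniteType.of_surjective (Ideal.Quotient.mkₐ R I) Ideal.Quotient.mk_surjective
  haveI : Algebra.FiniteType (R ⧸ maximalIdeal R) (S ⧸ I) :=
    Algebra.FiniteType.of_restrictScalars_finiteType R _ _
  haveI : IsNoetherianRing (S ⧸ I) := Algebra.FiniteType.isNoetherianRing (R ⧸ maximalIdeal R) _
  haveI : Module.Finite (S ⧸ I) (N ⧸ I • (⊤ : Submodule S N)) :=
    Module.Finite.of_restrictScalars_finite S (S ⧸ I) _
  let W := N ⧸ I • (⊤ : Submodule S N)
  let K : Submodule (S ⧸ I) W :=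
    { carrier := {w | ∃ s ∉ q, s • w = 0}
      zero_mem' := ⟨1, fun h => Ideal.IsPrime.ne_top' ((Ideal.eq_top_iff_one q).2 h), smul_zero _⟩
      add_mem' := by
        rintro a b ⟨s, hs, hsa⟩ ⟨t, ht, htb⟩
        refine ⟨s * t, fun h => (Ideal.IsPrime.mem_or_mem ‹q.IsPrime› h).elim hs ht, ?_⟩
        rw [smul_add, mul_smul s t b, htb, smul_zero, add_zero, mul_comm, mul_smul, hsa, smul_zero]
      smul_mem' := by
        rintro c w ⟨s, hs, hsw⟩
        obtain ⟨c, rfl⟩ := Ideal.Quotient.mk_surjective c
        refine ⟨s, hs, ?_⟩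
        rw [← Ideal.Quotient.algebraMap_eq, algebraMap_smul, smul_comm, hsw, smul_zero] }
  obtain ⟨F, hF⟩ := IsNoetherian.noetherian K
  have hmemF : ∀ w : F, ∃ s ∉ q, s • (w : W) = 0 := fun w =>
    (hF.le (Submodule.subset_span w.2) : (w : W) ∈ K)
  choose s hs hsw using hmemF
  refine ⟨∏ w, s w, fun hmem => ?_, fun t ht n hn => ?_⟩
  · obtain ⟨w, -, hw⟩ := (Ideal.IsPrime.prod_mem_iff).1 hmem
    exact hs w hw
  · have hK : Submodule.Quotient.mk n ∈ K := ⟨t, ht, by
      rw [← Submodule.Quotient.mk_smul, Submodule.Quotient.mk_eq_zero]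
      exact (hIff _).1 hn⟩
    have hkill : ∀ w ∈ K, (∏ v, s v) • w = 0 := by
      intro w hw
      rw [← hF] at hw
      induction hw using Submodule.span_induction with
      | mem w hw =>
        obtain ⟨b, hb⟩ := Finset.dvd_prod_of_mem s (Finset.mem_univ (⟨w, hw⟩ : F))
        rw [hb, mul_comm, mul_smul, hsw ⟨w, hw⟩, smul_zero]
      | zero => exact smul_zero _
      | add a b _ _ ha hb => rw [smul_add, ha, hb, add_zero]
      | smul c a _ ha =>
        obtain ⟨c, rfl⟩ := Ideal.Quotient.mk_surjective c
        rw [← Ideal.Quotient.algebraMap_eq, algebraMap_smul, smul_comm, ha, smul_zero]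
    have := hkill _ hK
    rw [← Submodule.Quotient.mk_smul, Submodule.Quotient.mk_eq_zero] at this
    exact (hIff _).2 this

/-- Elements of `J` times a localisation come from `J` times the module. -/
theorem exists_smul_mem_of_localization {R S X Y : Type u} [CommRing R] [CommRing S] [Algebra R S]
    [AddCommGroup X] [Module S X] [Module R X] [IsScalarTower R S X] [AddCommGroup Y] [Module S Y] [Module R Y]
    [IsScalarTower R S Y] (U : Submonoid S) (i : X →ₗ[S] Y) [IsLocalizedModule U i] {J : Ideal R} {n : X}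
    (h : i n ∈ J • (⊤ : Submodule R Y)) : ∃ s ∈ U, s • n ∈ J • (⊤ : Submodule R X) := by
  have key : ∀ y ∈ J • (⊤ : Submodule R Y), ∃ (s : U) (x : X), x ∈ J • (⊤ : Submodule R X) ∧ i x = (s : S) • y := by
    intro y hy
    refine Submodule.smul_induction_on hy (fun a ha l _ => ?_) (fun y y' hy hy' => ?_)
    · obtain ⟨⟨x, s⟩, hxs⟩ := IsLocalizedModule.surj U i l
      refine ⟨s, a • x, Submodule.smul_mem_smul ha trivial, ?_⟩
      rw [LinearMap.map_smul_of_tower, smul_comm, ← hxs, Submonoid.smul_def]
    · obtain ⟨s, x, hx, hix⟩ := hy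
      obtain ⟨t, x', hx', hix'⟩ := hy'
      refine ⟨s * t, (t : S) • x + (s : S) • x', add_mem (smul_mem_smul_top _ hx) (smul_mem_smul_top _ hx'), ?_⟩
      rw [map_add, map_smul, map_smul, hix, hix', Submonoid.coe_mul, smul_add, smul_smul, smul_smul, mul_comm (t : S) (s : S)]
  obtain ⟨s, x, hx, hix⟩ := key _ h
  rw [← map_smul] at hix
  obtain ⟨c, hc⟩ := (IsLocalizedModule.eq_iff_exists U i).1 hix
  refine ⟨(c : S) * s, mul_mem c.2 s.2, ?_⟩
  rw [mul_smul, show (c : S) • (s : S) • n = (c : S) • x from hc.symm]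
  exact smul_mem_smul_top _ hx

/-- An element acting bijectively can be cancelled in `J • ⊤`. -/
theorem mem_of_smul_mem {R S X : Type u} [CommRing R] [CommRing S] [Algebra R S] [AddCommGroup X] [Module S X]
    [Module R X] [IsScalarTower R S X] {s : S} (hs : IsUnit (algebraMap S (Module.End S X) s)) {J : Ideal R} {x : X}
    (hx : s • x ∈ J • (⊤ : Submodule R X)) : x ∈ J • (⊤ : Submodule R X) := by
  have h1 := map_mem_smul_top ((hs.unit⁻¹ : (Module.End S X)ˣ).val.restrictScalars R) hx
  have h2 : (hs.unit⁻¹ : (Module.End S X)ˣ).val (s • x) = x := by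
    have h3 := LinearMap.congr_fun hs.val_inv_mul x
    rw [Module.End.mul_apply, Module.algebraMap_end_apply] at h3
    exact h3
  rwa [LinearMap.coe_restrictScalars, h2] at h1

/-- Over a henselian local ring, a module flat at a point of the closed fibre maps to a projective module
which is universally injective in the localisation at the point. -/
theorem exists_projective_model {R S N : Type u} [CommRing R] [HenselianLocalRing R] [CommRing S] [Algebra R S]
    [Algebra.FinitePresentation R S] [AddCommGroup N] [Module S N] [Module R N] [IsScalarTower R S N] [Module.Finite S N]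
    (q : Ideal S) [q.IsPrime] [q.LiesOver (maximalIdeal R)] (hflat : FlatCA.FlatAt R q N) :
    ∃ (N₀ : Type u) (_ : AddCommGroup N₀) (_ : Module R N₀) (i₀ : N →ₗ[R] N₀)
      (j : N₀ →ₗ[R] LocalizedModule q.primeCompl N),
      Module.Projective R N₀ ∧ (∀ n, j (i₀ n) = LocalizedModule.mkLinearMap q.primeCompl N n) ∧
        FlatCA.UnivInj R j := by
  obtain ⟨g, hg, hkill⟩ := exists_killing_torsion (R := R) (N := N) q
  let Sg := Localization (Submonoid.powers g)
  let Ng := LocalizedModule (Submonoid.powers g) N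
  let L := LocalizedModule q.primeCompl N
  let Sq := Localization q.primeCompl
  have hgu : IsUnit (algebraMap S Sq g) := IsLocalization.map_units Sq (⟨g, hg⟩ : q.primeCompl)
  haveI : IsLocalization.Away g Sg := inferInstanceAs (IsLocalization (Submonoid.powers g) Sg)
  let φ : Sg →+* Sq := IsLocalization.Away.lift g hgu
  letI : Module Sg L := Module.compHom L φ
  have hφS : ∀ s, φ (algebraMap S Sg s) = algebraMap S Sq s := fun s => IsLocalization.Away.lift_eq g hgu s
  haveI : IsScalarTower S Sg L := IsScalarTower.of_algebraMap_smul fun s l => by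
    show φ (algebraMap S Sg s) • l = s • l
    rw [hφS, algebraMap_smul]
  haveI : IsScalarTower R Sg L := IsScalarTower.of_algebraMap_smul fun r l => by
    rw [IsScalarTower.algebraMap_apply R S Sg, algebraMap_smul, algebraMap_smul]
  haveI : IsScalarTower R Sg Ng := IsScalarTower.of_algebraMap_smul fun r l => by
    rw [IsScalarTower.algebraMap_apply R S Sg, algebraMap_smul, algebraMap_smul]
  -- the point of the open piece
  let qg : Ideal Sg := q.map (algebraMap S Sg)
  have hdisj : Disjoint (Submonoid.powers g : Set S) (q : Set S) := by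
    rw [Set.disjoint_left]
    rintro _ ⟨k, rfl⟩ hk
    exact hg (Ideal.IsPrime.mem_of_pow_mem ‹_› k hk)
  haveI : qg.IsPrime := IsLocalization.isPrime_of_isPrime_disjoint (Submonoid.powers g) Sg q inferInstance hdisj
  have hqg : qg.comap (algebraMap S Sg) = q :=
    IsLocalization.comap_map_of_isPrime_disjoint (Submonoid.powers g) Sg inferInstance hdisj
  haveI : qg.LiesOver (maximalIdeal R) := ⟨by
    rw [Ideal.under, IsScalarTower.algebraMap_eq R S Sg, ← Ideal.comap_comap, hqg]
    exact Ideal.LiesOver.over⟩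
  have hnot : ∀ s : S, s ∉ q → algebraMap S Sg s ∉ qg := fun s hs h => hs (hqg ▸ h)
  haveI : Algebra.FinitePresentation S Sg := IsLocalization.Away.finitePresentation g
  haveI : Algebra.FinitePresentation R Sg := Algebra.FinitePresentation.trans R S Sg
  haveI : Module.Finite Sg Ng := Module.Finite.of_isLocalizedModule (Submonoid.powers g) (LocalizedModule.mkLinearMap _ N)
  let ι : N →ₗ[S] Ng := LocalizedModule.mkLinearMap _ N
  have hflatg : FlatCA.FlatAt R qg Ng := by
    refine (FlatModel.flat_localized_iff qg.primeCompl (LocalizedModule.mkLinearMap qg.primeCompl Ng)).2 fun J y hy => ?_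
    let φJ : N ⊗[R] J →ₗ[S] Ng ⊗[R] J := AlgebraTensorModule.rTensor R J ι
    let ψ : N ⊗[R] R →ₗ[S] Ng ⊗[R] R := AlgebraTensorModule.rTensor R R ι
    have hcomm : ∀ z, J.subtype.lTensor Ng (φJ z) = ψ (J.subtype.lTensor N z) := fun z => by
      induction z using TensorProduct.induction_on with
      | zero => simp
      | tmul m j => simp [φJ, ψ]
      | add a b ha hb => simp only [map_add, ha, hb]
    obtain ⟨⟨y₁, s⟩, hys⟩ := IsLocalizedModule.surj (Submonoid.powers g) φJ y
    have h1 : ψ (J.subtype.lTensor N y₁) = 0 := by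
      rw [← hcomm, ← hys, Submonoid.smul_def]
      have := (AlgebraTensorModule.lTensor S Ng J.subtype).map_smul (s : S) y
      rw [show J.subtype.lTensor Ng ((s : S) • y) = (s : S) • J.subtype.lTensor Ng y from this, hy, smul_zero]
    obtain ⟨t, ht⟩ := (IsLocalizedModule.eq_zero_iff (Submonoid.powers g) ψ).1 h1
    have h2 : J.subtype.lTensor N ((t : S) • y₁) = 0 := by
      rw [show J.subtype.lTensor N ((t : S) • y₁) = (t : S) • J.subtype.lTensor N y₁ from
        (AlgebraTensorModule.lTensor S N J.subtype).map_smul _ _]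
      exact ht
    obtain ⟨r, hr, hry⟩ :=
      (FlatModel.flat_localized_iff q.primeCompl (LocalizedModule.mkLinearMap q.primeCompl N)).1 hflat J _ h2
    refine ⟨algebraMap S Sg (r * t * s), hnot _ ?_, ?_⟩
    · intro hmem
      obtain ⟨k, hk⟩ := t.2
      obtain ⟨l, hl⟩ := s.2
      rcases Ideal.IsPrime.mem_or_mem ‹q.IsPrime› hmem with h | h
      · rcases Ideal.IsPrime.mem_or_mem ‹q.IsPrime› h with h | h
        · exact hr h
        · exact hg (Ideal.IsPrime.mem_of_pow_mem ‹_› k (by rw [show g ^ k = (t : S) from hk]; exact h))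
      · exact hg (Ideal.IsPrime.mem_of_pow_mem ‹_› l (by rw [show g ^ l = (s : S) from hl]; exact h))
    · rw [algebraMap_smul, mul_smul, ← Submonoid.smul_def, hys, ← map_smul, mul_smul, hry, map_zero]
  obtain ⟨h, hh, hfree⟩ := RG.exists_free_away_henselian Ng qg hflatg
  let N₀ := LocalizedModule (Submonoid.powers h) Ng
  haveI : Module.Free R N₀ := hfree
  -- the map to the localisation at the point
  have hgunits : ∀ x : Submonoid.powers g,
      IsUnit (algebraMap S (Module.End S (LocalizedModule q.primeCompl N)) x) := fun x => by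
    obtain ⟨k, hk⟩ := x.2
    exact IsLocalizedModule.map_units (LocalizedModule.mkLinearMap q.primeCompl N)
      (⟨x.1, fun hx => hg (Ideal.IsPrime.mem_of_pow_mem ‹q.IsPrime› k
        (by rw [show g ^ k = (x : S) from hk]; exact hx))⟩ : q.primeCompl)
  let lam₀ : Ng →ₗ[S] L :=
    IsLocalizedModule.lift (Submonoid.powers g) ι (LocalizedModule.mkLinearMap q.primeCompl N) hgunits
  let lam : Ng →ₗ[Sg] L := LinearMap.extendScalarsOfIsLocalization (Submonoid.powers g) Sg lam₀
  have hunit : ∀ x : Submonoid.powers h, IsUnit (algebraMap Sg (Module.End Sg L) x) := by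
    intro x
    have hφu : IsUnit (φ h) := by
      obtain ⟨⟨a, s⟩, has⟩ := IsLocalization.surj (Submonoid.powers g) h
      have ha : a ∉ q := fun ha => hh (((Ideal.IsPrime.mem_or_mem ‹qg.IsPrime›
        (show h * algebraMap S Sg s ∈ qg from has ▸ Ideal.mem_map_of_mem _ ha))).resolve_right fun hs => by
          obtain ⟨k, hk⟩ := s.2
          exact hnot g hg (Ideal.IsPrime.mem_of_pow_mem ‹qg.IsPrime› k
            (by rw [← map_pow, show g ^ k = (s : S) from hk]; exact hs)))
      have h1 : IsUnit (φ h * φ (algebraMap S Sg s)) := by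
        rw [← map_mul, has, hφS]
        exact IsLocalization.map_units Sq (⟨a, ha⟩ : q.primeCompl)
      exact (IsUnit.mul_iff.1 h1).1
    obtain ⟨k, hk⟩ := x.2
    rw [Module.End.isUnit_iff]
    have hu : IsUnit (φ x.1) := by rw [← hk, map_pow]; exact hφu.pow k
    refine ⟨fun a b hab => ?_, fun b => ⟨(hu.unit⁻¹ : Sqˣ).val • b, ?_⟩⟩
    · rw [Module.algebraMap_end_apply, Module.algebraMap_end_apply] at hab
      exact hu.smul_left_cancel.1 (show φ x.1 • a = φ x.1 • b from hab)
    · rw [Module.algebraMap_end_apply]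
      show φ x.1 • ((hu.unit⁻¹ : Sqˣ).val • b) = b
      rw [smul_smul, hu.mul_val_inv, one_smul]
  let κ : Ng →ₗ[Sg] N₀ := LocalizedModule.mkLinearMap _ Ng
  let j : N₀ →ₗ[Sg] L := IsLocalizedModule.lift (Submonoid.powers h) κ lam hunit
  haveI : IsScalarTower R Sg N₀ := inferInstance
  have hjκ : ∀ n, j (κ n) = lam n := fun n => IsLocalizedModule.lift_apply (Submonoid.powers h) κ lam hunit n
  have hlam : ∀ n, lam (ι n) = LocalizedModule.mkLinearMap q.primeCompl N n := fun n =>
    IsLocalizedModule.lift_apply (Submonoid.powers g) ι (LocalizedModule.mkLinearMap q.primeCompl N) hgunits n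
  haveI : Module.Flat R L := hflat
  refine ⟨N₀, inferInstance, inferInstance, (κ.restrictScalars R).comp (ι.restrictScalars R), j.restrictScalars R,
    inferInstance, fun n => (hjκ (ι n)).trans (hlam n), ?_⟩
  refine RG.univInj_of_projective_of_mod_maximal _ fun m hm z hz => ?_
  rw [show m = maximalIdeal R from IsLocalRing.eq_maximalIdeal hm] at hz ⊢
  obtain ⟨⟨z₁, a⟩, hz₁⟩ := IsLocalizedModule.surj (Submonoid.powers h) κ z
  obtain ⟨⟨n, b⟩, hn⟩ := IsLocalizedModule.surj (Submonoid.powers g) ι z₁
  have h1 : LocalizedModule.mkLinearMap q.primeCompl N n ∈ maximalIdeal R • (⊤ : Submodule R L) := by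
    rw [← hlam, ← hn, Submonoid.smul_def, ← algebraMap_smul Sg (b : S) z₁, map_smul, ← hjκ, ← hz₁,
      Submonoid.smul_def, map_smul]
    exact smul_mem_smul_top _ (smul_mem_smul_top _ hz)
  obtain ⟨s, hs, hsn⟩ := exists_smul_mem_of_localization q.primeCompl _ h1
  have h2 := map_mem_smul_top (ι.restrictScalars R) (hkill s hs n hsn)
  rw [LinearMap.coe_restrictScalars, map_smul, ← hn, Submonoid.smul_def, smul_smul] at h2
  have h3 : z₁ ∈ maximalIdeal R • (⊤ : Submodule R Ng) :=
    mem_of_smul_mem (IsLocalizedModule.map_units ι (⟨g, Submonoid.mem_powers g⟩ * b : Submonoid.powers g)) h2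
  have h4 := map_mem_smul_top (κ.restrictScalars R) h3
  rw [LinearMap.coe_restrictScalars, ← hz₁, Submonoid.smul_def] at h4
  exact mem_of_smul_mem (IsLocalizedModule.map_units κ a) h4

end Groth.Agent.UnivInjHensel
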